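import Mathlib.AlgebraicGeometry.SpreadingOut
import Mathlib.AlgebraicGeometry.Morphisms.FinitePresentation
import Mathlib.AlgebraicGeometry.Morphisms.FiniteType

/-!
Spreading out from stalks without germ-injectivity:
* uniqueness when the target is locally of finite type;
* existence when the target is locally of finite presentation.
-/

universe u

open CategoryTheory AlgebraicGeometry TopologicalSpace

namespace Groth.Agent.H75.Spread

variable {S X Y : Scheme.{u}}

/-- Finitely many equal germs are equal on a common neighbourhood. -/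
theorem exists_restrict_eq {ι : Type*} [Finite ι] (x : X) (U : X.Opens) (hxU : x ∈ U)
    (a b : ι → Γ(X, U))
    (h : ∀ i, X.presheaf.germ U x hxU (a i) = X.presheaf.germ U x hxU (b i)) :
    ∃ (W : X.Opens) (hW : W ≤ U), x ∈ W ∧
      ∀ i, X.presheaf.map (homOfLE hW).op (a i) = X.presheaf.map (homOfLE hW).op (b i) := by
  choose W hxW iU iU' hW using fun i => X.presheaf.germ_eq x hxU hxU (a i) (b i) (h i)
  cases nonempty_fintype ι
  refine ⟨Finset.univ.inf W ⊓ U, inf_le_right, ?_, fun i => ?_⟩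
  · rw [← SetLike.mem_coe, Opens.coe_inf, Opens.coe_finset_inf]
    exact ⟨by simpa using hxW, hxU⟩
  · have hle : Finset.univ.inf W ⊓ U ≤ W i := inf_le_left.trans (Finset.inf_le (Finset.mem_univ i))
    have := congrArg (X.presheaf.map (homOfLE hle).op) (hW i)
    rw [← CommRingCat.comp_apply, ← CommRingCat.comp_apply, ← X.presheaf.map_comp,
      ← X.presheaf.map_comp] at this
    exact this

/-- Lifting a map out of a finitely presented algebra from the stalk to a neighbourhood. -/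
theorem exists_lift {A R : CommRingCat.{u}} {U : X.Opens} {x : X} (hxU : x ∈ U)
    (φ : A ⟶ X.presheaf.stalk x) (φRA : R ⟶ A) (φRX : R ⟶ Γ(X, U))
    (hφRA : φRA.hom.FinitePresentation)
    (e : φRA ≫ φ = φRX ≫ X.presheaf.germ U x hxU) :
    ∃ (V : X.Opens) (hxV : x ∈ V) (φ' : A ⟶ Γ(X, V)) (i : V ≤ U), IsAffineOpen V ∧
      φ = φ' ≫ X.presheaf.germ V x hxV ∧ φRX ≫ X.presheaf.map i.hom.op = φRA ≫ φ' := by
  classical
  letI := φRA.hom.toAlgebra
  haveI : Algebra.FinitePresentation R A := hφRA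
  obtain ⟨n, π, hπ, ⟨r, hr⟩⟩ := Algebra.FinitePresentation.out (R := R) (A := A)
  -- lift the generators
  choose W hxW a ha using fun i => X.presheaf.exists_germ_eq (φ (π (MvPolynomial.X i)))
  let W₀ : X.Opens := Finset.univ.inf W ⊓ U
  have hxW₀ : x ∈ W₀ := by
    rw [← SetLike.mem_coe, Opens.coe_inf, Opens.coe_finset_inf]
    exact ⟨by simpa using hxW, hxU⟩
  have hle : ∀ i, W₀ ≤ W i := fun i => inf_le_left.trans (Finset.inf_le (Finset.mem_univ i))
  let ψ : R ⟶ Γ(X, W₀) := φRX ≫ X.presheaf.map (homOfLE (inf_le_right : W₀ ≤ U)).op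
  let g : MvPolynomial (Fin n) R →+* Γ(X, W₀) :=
    MvPolynomial.eval₂Hom ψ.hom fun i => X.presheaf.map (homOfLE (hle i)).op (a i)
  have hg : (X.presheaf.germ W₀ x hxW₀).hom.comp g = φ.hom.comp π.toRingHom := by
    refine MvPolynomial.ringHom_ext (fun c => ?_) fun i => ?_
    · have h1 := congrArg (fun f => f.hom c) e
      simp only [CommRingCat.comp_apply, CommRingCat.hom_comp, RingHom.comp_apply] at h1
      simp only [g, ψ, RingHom.comp_apply, MvPolynomial.eval₂Hom_C, CommRingCat.hom_comp]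
      rw [TopCat.Presheaf.germ_res_apply, ← h1]
      simp only [AlgHom.toRingHom_eq_coe, RingHom.coe_coe]
      rw [show (MvPolynomial.C c : MvPolynomial (Fin n) R) = algebraMap R _ c from rfl, π.commutes]
      rfl
    · simp only [g, RingHom.comp_apply, MvPolynomial.eval₂Hom_X']
      rw [TopCat.Presheaf.germ_res_apply, ha]
      rfl
  obtain ⟨W₁, hW₁, hxW₁, hrel⟩ := exists_restrict_eq (ι := r) x W₀ hxW₀ (fun p => g p.1) 0
    fun p => by
      have h1 := DFunLike.congr_fun hg p.1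
      have h2 : π p.1 = 0 := RingHom.mem_ker.mp (hr ▸ Ideal.subset_span p.2)
      simp only [RingHom.comp_apply, AlgHom.toRingHom_eq_coe, RingHom.coe_coe, h2,
        map_zero] at h1
      simpa using h1
  obtain ⟨_, ⟨V, hV, rfl⟩, hxV, hVW⟩ :=
    X.isBasis_affineOpens.exists_subset_of_mem_open hxW₁ W₁.2
  have hVW₀ : V ≤ W₀ := le_trans hVW hW₁
  let res := (X.presheaf.map (homOfLE hVW₀).op).hom.comp g
  have hker : RingHom.ker π.toRingHom ≤ RingHom.ker res := by
    rw [← hr, Ideal.span_le]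
    intro p hp
    have h1 := congrArg (X.presheaf.map (homOfLE hVW).op) (hrel ⟨p, hp⟩)
    simp only [Pi.zero_apply, map_zero] at h1
    rw [← CommRingCat.comp_apply, ← X.presheaf.map_comp] at h1
    exact h1
  let φ' : A ⟶ Γ(X, V) :=
    CommRingCat.ofHom (RingHom.liftOfSurjective π.toRingHom hπ ⟨res, hker⟩)
  have hφ' : ∀ q, φ' (π q) = res q := fun q =>
    RingHom.liftOfRightInverse_comp_apply π.toRingHom _ _ ⟨res, hker⟩ q
  refine ⟨V, hxV, φ', le_trans hVW₀ inf_le_right, hV, ?_, ?_⟩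
  · ext z
    obtain ⟨q, rfl⟩ := hπ z
    rw [CommRingCat.comp_apply, hφ']
    simp only [res, RingHom.comp_apply, TopCat.Presheaf.germ_res_apply]
    exact (DFunLike.congr_fun hg q).symm
  · ext c
    have h1 := hφ' (algebraMap R _ c)
    rw [π.commutes] at h1
    simp only [CommRingCat.comp_apply]
    change _ = φ' (algebraMap R A c)
    rw [h1]
    simp only [res, g, ψ, RingHom.comp_apply, MvPolynomial.algebraMap_eq, MvPolynomial.eval₂Hom_C,
      CommRingCat.hom_comp]
    change _ = (X.presheaf.map (homOfLE (inf_le_right : W₀ ≤ U)).op ≫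
      X.presheaf.map (homOfLE hVW₀).op) (φRX c)
    rw [← X.presheaf.map_comp]
    rfl

set_option backward.isDefEq.respectTransparency.types false in
/-- Existence of spreading out for targets locally of finite presentation. -/
theorem spread_out (sX : X ⟶ S) (sY : Y ⟶ S) [LocallyOfFinitePresentation sY] {x : X}
    (φ : Spec (X.presheaf.stalk x) ⟶ Y) (h : φ ≫ sY = X.fromSpecStalk x ≫ sX) :
    ∃ (U : X.Opens) (hxU : x ∈ U) (f : U.toScheme ⟶ Y),
      φ = U.fromSpecStalkOfMem x hxU ≫ f ∧ f ≫ sY = U.ι ≫ sX := by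
  let y := φ (IsLocalRing.closedPoint _)
  let ψ := Scheme.stalkClosedPointTo φ
  have e : sX x = sY y := by
    simp only [y]
    rw [← Scheme.Hom.comp_apply, h, Scheme.Hom.comp_apply, Scheme.fromSpecStalk_closedPoint]
  have h' : sY.stalkMap y ≫ ψ =
      S.presheaf.stalkSpecializes (Inseparable.of_eq e).specializes ≫ sX.stalkMap x := by
    apply Spec.map_injective
    rw [← cancel_mono (S.fromSpecStalk _)]
    simp only [Spec.map_comp, Category.assoc, Scheme.SpecMap_stalkMap_fromSpecStalk,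
      Scheme.SpecMap_stalkSpecializes_fromSpecStalk, ψ]
    change Spec.map (Scheme.stalkClosedPointTo φ) ≫
      Y.fromSpecStalk (φ (IsLocalRing.closedPoint _)) ≫ sY = _
    rw [Scheme.Spec_stalkClosedPointTo_fromSpecStalk_assoc, h]
  obtain ⟨_, ⟨U, hU, rfl⟩, hxU, -⟩ :=
    S.isBasis_affineOpens.exists_subset_of_mem_open (Set.mem_univ (sX x)) isOpen_univ
  have hyU : sY y ∈ U := e ▸ hxU
  obtain ⟨_, ⟨V : Y.Opens, hV, rfl⟩, hyV, iVU⟩ :=
    Y.isBasis_affineOpens.exists_subset_of_mem_open hyU (sY ⁻¹ᵁ U).2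
  have : sY.appLE U V iVU ≫ Y.presheaf.germ V y hyV ≫ ψ =
      sX.app U ≫ X.presheaf.germ (sX ⁻¹ᵁ U) x hxU := by
    rw [Scheme.Hom.appLE, Category.assoc, Y.presheaf.germ_res_assoc,
      ← Scheme.Hom.germ_stalkMap_assoc, h']
    simp
  obtain ⟨W, hxW, φ', i, hW, h₁, h₂⟩ :=
    exists_lift (R := Γ(S, U)) (A := Γ(Y, V)) (U := sX ⁻¹ᵁ U) (x := x) hxU
    (Y.presheaf.germ _ y hyV ≫ ψ) (sY.appLE U V iVU) (sX.app U)
    (LocallyOfFinitePresentation.finitePresentation_appLE sY hU hV _) this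
  refine ⟨W, hxW, W.toSpecΓ ≫ Spec.map φ' ≫ hV.fromSpec, ?_, ?_⟩
  · rw [W.fromSpecStalkOfMem_toSpecΓ_assoc x hxW, ← Spec.map_comp_assoc, ← h₁,
      Spec.map_comp, Category.assoc, ← IsAffineOpen.fromSpecStalk,
      IsAffineOpen.fromSpecStalk_eq_fromSpecStalk]
    exact (Scheme.Spec_stalkClosedPointTo_fromSpecStalk φ).symm
  · simp only [Category.assoc]
    rw [← IsAffineOpen.SpecMap_appLE_fromSpec sY hU hV iVU, ← Spec.map_comp_assoc, ← h₂,
      ← Scheme.Hom.appLE, ← hW.isoSpec_hom, IsAffineOpen.SpecMap_appLE_fromSpec sX hU hW i,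
      ← Iso.eq_inv_comp, IsAffineOpen.isoSpec_inv_ι_assoc]

set_option backward.isDefEq.respectTransparency.types false in
/-- Uniqueness of spreading out for targets locally of finite type. -/
theorem spread_out_unique (sY : Y ⟶ S) [LocallyOfFiniteType sY] {x : X} (f g : X ⟶ Y)
    (hfg : f ≫ sY = g ≫ sY) (e : X.fromSpecStalk x ≫ f = X.fromSpecStalk x ≫ g) :
    ∃ (U : X.Opens), x ∈ U ∧ U.ι ≫ f = U.ι ≫ g := by
  have e' : f x = g x := by simpa using congr($e (IsLocalRing.closedPoint _))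
  have H : f.stalkMap x =
      Y.presheaf.stalkSpecializes (Inseparable.of_eq e'.symm).specializes ≫ g.stalkMap x := by
    apply Spec.map_injective
    rw [← cancel_mono (Y.fromSpecStalk _)]
    simpa [Scheme.SpecMap_stalkSpecializes_fromSpecStalk]
  obtain ⟨_, ⟨U₀, hU₀, rfl⟩, hxU₀, -⟩ :=
    S.isBasis_affineOpens.exists_subset_of_mem_open (Set.mem_univ (sY (f x))) isOpen_univ
  obtain ⟨_, ⟨V : Y.Opens, hV, rfl⟩, hxV, iVU⟩ :=
    Y.isBasis_affineOpens.exists_subset_of_mem_open hxU₀ (sY ⁻¹ᵁ U₀).2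
  have hxV' : g x ∈ V := e' ▸ hxV
  let U₁ : X.Opens := f ⁻¹ᵁ V ⊓ g ⁻¹ᵁ V
  have hxU₁ : x ∈ U₁ := ⟨hxV, hxV'⟩
  let a := f.appLE V U₁ inf_le_left
  let b := g.appLE V U₁ inf_le_right
  have hab : a ≫ X.presheaf.germ U₁ x hxU₁ = b ≫ X.presheaf.germ U₁ x hxU₁ := by
    simp only [a, b, Scheme.Hom.appLE, Category.assoc, X.presheaf.germ_res',
      ← Scheme.Hom.germ_stalkMap, H]
    simp only [TopCat.Presheaf.germ_stalkSpecializes_assoc, Scheme.Hom.germ_stalkMap]
  have hft := sY.finiteType_appLE hU₀ hV iVU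
  letI := (sY.appLE U₀ V iVU).hom.toAlgebra
  obtain ⟨t, ht⟩ := (hft : Algebra.FiniteType Γ(S, U₀) Γ(Y, V)).out
  obtain ⟨U, hUle, hxU, hU⟩ := exists_restrict_eq (ι := t) x U₁ hxU₁ (fun p => a p.1)
    (fun p => b p.1) fun p => congrArg (fun h => h.hom p.1) hab
  have key : f.appLE V U (hUle.trans inf_le_left) = g.appLE V U (hUle.trans inf_le_right) := by
    have h₁ : f.appLE V U (hUle.trans inf_le_left) = a ≫ X.presheaf.map (homOfLE hUle).op :=
      (Scheme.Hom.appLE_map f _ _).symm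
    have h₂ : g.appLE V U (hUle.trans inf_le_right) = b ≫ X.presheaf.map (homOfLE hUle).op :=
      (Scheme.Hom.appLE_map g _ _).symm
    have hR : sY.appLE U₀ V iVU ≫ f.appLE V U (hUle.trans inf_le_left) =
        sY.appLE U₀ V iVU ≫ g.appLE V U (hUle.trans inf_le_right) := by
      rw [Scheme.Hom.appLE_comp_appLE, Scheme.Hom.appLE_comp_appLE]
      congr 1
    ext z
    have hz : z ∈ Algebra.adjoin Γ(S, U₀) (t : Set Γ(Y, V)) := by rw [ht]; trivial
    induction hz using Algebra.adjoin_induction with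
    | mem p hp => rw [h₁, h₂]; exact hU ⟨p, hp⟩
    | algebraMap c => exact congrArg (fun h => h.hom c) hR
    | add p q _ _ hp hq => rw [map_add, map_add, hp, hq]
    | mul p q _ _ hp hq => rw [map_mul, map_mul, hp, hq]
  refine ⟨U, hxU, ?_⟩
  rw [← Scheme.Hom.resLE_comp_ι f (hUle.trans inf_le_left),
    ← Scheme.Hom.resLE_comp_ι g (hUle.trans inf_le_right)]
  congr 1
  have : IsAffine V := hV
  suffices ∀ (U₀ V₀) (eU : U = U₀) (eV : V = V₀),
      f.appLE V₀ U₀ (eU ▸ eV ▸ hUle.trans inf_le_left) =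
        g.appLE V₀ U₀ (eU ▸ eV ▸ hUle.trans inf_le_right) by
    rw [← cancel_mono V.toScheme.isoSpec.hom]
    simp only [Scheme.isoSpec, asIso_hom, Scheme.toSpecΓ_naturality,
      Scheme.Hom.app_eq_appLE, Scheme.Hom.resLE_appLE]
    congr 2
    apply this <;> simp
  rintro U' V' rfl rfl
  exact key

end Groth.Agent.H75.Spread
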