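import Groth.Agent.H75.Spread.Basic

/-!
An isomorphism of stalks spreads out to an isomorphism of open neighbourhoods.
-/

universe u

open CategoryTheory AlgebraicGeometry TopologicalSpace

namespace Groth.Agent.H75.Spread

variable {X Y : Scheme.{u}}

/-- A section at a point with iso stalk map spreads to an isomorphism of neighbourhoods. -/
theorem exists_isIso_resLE_of_section (f : X ⟶ Y) [LocallyOfFiniteType f] (x : X)
    [IsIso (f.stalkMap x)] (V : Y.Opens) (hxV : f x ∈ V) (σ : V.toScheme ⟶ X)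
    (hσ : σ ≫ f = V.ι)
    (hσx : Spec.map (inv (f.stalkMap x)) ≫ X.fromSpecStalk x =
      V.fromSpecStalkOfMem (f x) hxV ≫ σ) :
    ∃ (U' : X.Opens) (V' : Y.Opens) (h : U' ≤ f ⁻¹ᵁ V'), x ∈ U' ∧ V' ≤ V ∧
      IsIso (f.resLE V' U' h) := by
  let U₀ := f ⁻¹ᵁ V
  let r₀ := f.resLE V U₀ le_rfl
  have hr₀ : U₀.fromSpecStalkOfMem x hxV ≫ r₀ =
      Spec.map (f.stalkMap x) ≫ V.fromSpecStalkOfMem (f x) hxV := by
    rw [← cancel_mono V.ι]
    simp [r₀]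
  have hx : U₀.fromSpecStalkOfMem x hxV ≫ U₀.ι = U₀.fromSpecStalkOfMem x hxV ≫ r₀ ≫ σ := by
    rw [reassoc_of% hr₀, ← hσx, ← Spec.map_comp_assoc, IsIso.inv_hom_id, Spec.map_id,
      Category.id_comp, Scheme.Opens.fromSpecStalkOfMem_ι]
  have hx' : U₀.toScheme.fromSpecStalk ⟨x, hxV⟩ ≫ U₀.ι =
      U₀.toScheme.fromSpecStalk ⟨x, hxV⟩ ≫ r₀ ≫ σ := by
    rw [← cancel_epi (Spec.map (inv (U₀.ι.stalkMap ⟨x, hxV⟩)))]
    simpa [Scheme.Opens.fromSpecStalkOfMem] using hx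
  obtain ⟨W, hxW, hW⟩ := spread_out_unique f U₀.ι (r₀ ≫ σ)
    (by simp [r₀, hσ]) hx'
  let U₁ : X.Opens := U₀.ι ''ᵁ W
  have hU₁ : U₁ ≤ U₀ := U₀.ι_image_le W
  have key : U₁.ι = X.homOfLE hU₁ ≫ r₀ ≫ σ := by
    rw [← cancel_epi (U₀.ι.isoImage W).hom]
    have h1 : (U₀.ι.isoImage W).hom ≫ U₁.ι = W.ι ≫ U₀.ι := Scheme.Hom.isoImage_hom_ι _ _
    have h2 : (U₀.ι.isoImage W).hom ≫ X.homOfLE hU₁ = W.ι := by
      rw [← cancel_mono U₀.ι, Category.assoc, Scheme.homOfLE_ι, h1]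
    rw [h1, reassoc_of% h2, hW]
  let V' : Y.Opens := V.ι ''ᵁ (σ ⁻¹ᵁ U₁)
  have hV' : V' ≤ V := V.ι_image_le _
  let U₂ : X.Opens := U₁ ⊓ f ⁻¹ᵁ V'
  have hU₂ : U₂ ≤ f ⁻¹ᵁ V' := inf_le_right
  have hxU₁ : x ∈ U₁ := ⟨⟨x, hxV⟩, hxW, rfl⟩
  have hσfx : σ ⟨f x, hxV⟩ = x := by
    have h1 := congrArg (fun g : U₁.toScheme ⟶ X => g ⟨x, hxU₁⟩) key
    simp only [Scheme.Hom.comp_apply] at h1
    have h2 : r₀ (X.homOfLE hU₁ ⟨x, hxU₁⟩) = (⟨f x, hxV⟩ : V) := by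
      apply Subtype.ext
      simp [r₀, U₂]
    rw [h2] at h1
    exact h1.symm
  have hxU₂ : x ∈ U₂ := ⟨hxU₁, ⟨⟨f x, hxV⟩, by
    show σ ⟨f x, hxV⟩ ∈ U₁
    rw [hσfx]; exact hxU₁, rfl⟩⟩
  let σ' := Y.homOfLE hV' ≫ σ
  have hrange : Set.range σ' ⊆ Set.range U₂.ι := by
    rw [Scheme.Opens.range_ι]
    rintro _ ⟨p, rfl⟩
    obtain ⟨q, hq, hqp⟩ := p.2
    have hpq : Y.homOfLE hV' p = q := by
      apply V.ι.isOpenEmbedding.injective
      rw [← Scheme.Hom.comp_apply, Scheme.homOfLE_ι]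
      exact hqp.symm
    have hmem : σ' p ∈ U₁ := by
      simp only [σ', Scheme.Hom.comp_apply]
      rw [hpq]; exact hq
    refine ⟨hmem, ?_⟩
    show f (σ' p) ∈ V'
    simp only [σ', Scheme.Hom.comp_apply]
    rw [← Scheme.Hom.comp_apply σ f, hσ, hpq]
    exact ⟨q, hq, rfl⟩
  let s := IsOpenImmersion.lift U₂.ι σ' hrange
  have hs : s ≫ U₂.ι = σ' := IsOpenImmersion.lift_fac _ _ _
  refine ⟨U₂, V', hU₂, hxU₂, hV', ⟨s, ?_, ?_⟩⟩
  · rw [← cancel_mono U₂.ι, Category.assoc, hs, Category.id_comp]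
    have h3 : f.resLE V' U₂ hU₂ ≫ Y.homOfLE hV' =
        X.homOfLE (inf_le_left : U₂ ≤ U₁) ≫ X.homOfLE hU₁ ≫ r₀ := by
      rw [← cancel_mono V.ι]
      simp [r₀, U₂]
    simp only [σ']
    rw [reassoc_of% h3, ← key, Scheme.homOfLE_ι]
  · rw [← cancel_mono V'.ι, Category.assoc, Scheme.Hom.resLE_comp_ι, reassoc_of% hs]
    simp [σ', hσ]

/-- Spreading out an isomorphism of stalks, finitely presented case. -/
theorem exists_isIso_resLE_of_lfp (f : X ⟶ Y) [LocallyOfFinitePresentation f] (x : X)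
    [IsIso (f.stalkMap x)] :
    ∃ (U' : X.Opens) (V' : Y.Opens) (h : U' ≤ f ⁻¹ᵁ V'), x ∈ U' ∧
      IsIso (f.resLE V' U' h) := by
  obtain ⟨V, hxV, σ, h1, h2⟩ := spread_out (𝟙 Y) f
    (Spec.map (inv (f.stalkMap x)) ≫ X.fromSpecStalk x) (by
      rw [Category.assoc, ← Scheme.SpecMap_stalkMap_fromSpecStalk, ← Spec.map_comp_assoc,
        IsIso.hom_inv_id, Spec.map_id, Category.id_comp, Category.comp_id])
  obtain ⟨U', V', h, hx, -, hi⟩ :=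
    exists_isIso_resLE_of_section f x V hxV σ (by simpa using h2) h1
  exact ⟨U', V', h, hx, hi⟩

/-- Spreading out an isomorphism of stalks, germ-injective case. -/
theorem exists_isIso_resLE_of_lft (f : X ⟶ Y) [LocallyOfFiniteType f] (x : X)
    [Y.IsGermInjectiveAt (f x)] [IsIso (f.stalkMap x)] :
    ∃ (U' : X.Opens) (V' : Y.Opens) (h : U' ≤ f ⁻¹ᵁ V'), x ∈ U' ∧
      IsIso (f.resLE V' U' h) := by
  obtain ⟨V, hxV, σ, h1, h2⟩ := spread_out_of_isGermInjective' (𝟙 Y) f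
    (Spec.map (inv (f.stalkMap x)) ≫ X.fromSpecStalk x) (by
      rw [Category.assoc, ← Scheme.SpecMap_stalkMap_fromSpecStalk, ← Spec.map_comp_assoc,
        IsIso.hom_inv_id, Spec.map_id, Category.id_comp, Category.comp_id])
  obtain ⟨U', V', h, hx, -, hi⟩ :=
    exists_isIso_resLE_of_section f x V hxV σ (by simpa using h2) h1
  exact ⟨U', V', h, hx, hi⟩

end Groth.Agent.H75.Spread
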